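import Groth.Agent.Lib.PunctFree27.Model
import Groth.Agent.Lib.CurveCoh17.Pairing
import Groth.Agent.Lib.ModM1.Fpqc
import Groth.Agent.Lib.TensorMod.Invertible
import Groth.Prelude.Def_Wider

/-!
# Finite locally free modules on punctured affine schemes
-/

set_option autoImplicit false
universe u

open CategoryTheory Limits AlgebraicGeometry Opposite TopologicalSpace TensorProduct

noncomputable section

namespace Groth.Agent.PunctFree27

open Groth.Agent.M1 Groth.Agent.M2

variable {A : Type u} [CommRing A]

/-- Multiplication by a scalar on `tilde`. -/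
theorem tilde_map_smul {R : CommRingCat.{u}} (N : ModuleCat.{u} R) (a : R) :
    (tilde.functor R).map (ModuleCat.ofHom (a • LinearMap.id : N →ₗ[R] N)) =
      Formal.smulModΓ (tilde N) ((Scheme.ΓSpecIso R).inv a) := by
  apply ((tilde.adjunction (R := R)).homEquiv N (tilde N)).injective
  ext (x : N)
  rw [Adjunction.homEquiv_unit, Adjunction.homEquiv_unit]
  have h1 := ConcreteCategory.congr_hom (tilde.toOpen_map_app (ModuleCat.ofHom (a • LinearMap.id : N →ₗ[R] N)) ⊤) x
  refine h1.trans ?_
  change (tilde.toOpen N ⊤).hom (a • x) = _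
  rw [map_smul]
  exact (Scheme.Modules.smul_Spec_def a _).trans
    (KLin.smulModΓ_app_apply (tilde N) ((Scheme.ΓSpecIso R).inv a) ⊤ ((tilde.toOpen N ⊤).hom x)).symm

/-- Multiplication by a global function restricts to multiplication by its restriction. -/
theorem restrict_map_smulModΓ {X Y : Scheme.{u}} (f : Y ⟶ X) [IsOpenImmersion f] (M : X.Modules) (r : Coh.Γtop X) :
    (Scheme.Modules.restrictFunctor f).map (Formal.smulModΓ M r) = Formal.smulModΓ (M.restrict f) (f.appTop r) := by
  refine Scheme.Modules.hom_ext _ _ fun W => ?_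
  ext (m : Γ(M, f ''ᵁ W))
  refine (KLin.smulModΓ_app_apply M r (f ''ᵁ W) m).trans (Eq.trans ?_ (KLin.smulModΓ_app_apply (M.restrict f) (f.appTop r) W m).symm)
  change _ • m = (f.appIso W).inv _ • m
  congr 1
  have h : f.appTop ≫ Y.presheaf.map (homOfLE (le_top : W ≤ ⊤)).op ≫ (f.appIso W).inv =
      X.presheaf.map (homOfLE (le_top : f ''ᵁ W ≤ ⊤)).op := by
    rw [← cancel_mono (f.appIso W).hom, Category.assoc, Category.assoc, Iso.inv_hom_id, Category.comp_id,
      Scheme.Hom.appIso_hom', Scheme.Hom.appLE, Scheme.Hom.appTop, Scheme.Hom.naturality_assoc,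
      ← Functor.map_comp]
    rfl
  exact (ConcreteCategory.congr_hom h r).symm

set_option backward.isDefEq.respectTransparency false in
/-- Tensoring with `A_f` is localisation at `f`. -/
theorem nonempty_extend_equiv {R : CommRingCat.{u}} (N : ModuleCat.{u} R) (r : R) :
    Nonempty (((ModuleCat.extendScalars (algebraMap R (Localization (Submonoid.powers r)))).obj N) ≃ₗ[Localization (Submonoid.powers r)]
      LocalizedModule (Submonoid.powers r) N) := by
  let S := CommRingCat.of (Localization (Submonoid.powers r))
  let φ : R ⟶ S := CommRingCat.ofHom (algebraMap R (Localization (.powers r)))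
  let g : ((ModuleCat.restrictScalars φ.hom).obj (ModuleCat.of S S)) ≃ₗ[R] Localization (Submonoid.powers r) :=
    { toFun := fun x => x
      invFun := fun x => x
      left_inv := fun _ => rfl
      right_inv := fun _ => rfl
      map_add' := fun _ _ => rfl
      map_smul' := fun a x =>
        (Algebra.smul_def (A := Localization (Submonoid.powers r)) a
          (show Localization (Submonoid.powers r) from x)).symm }
  let q := TensorProduct.congr g (LinearEquiv.refl R N)
  let d : ((ModuleCat.extendScalars φ.hom).obj N) ≃ₗ[S] (Localization (Submonoid.powers r) ⊗[R] N) :=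
      { toFun := fun x => q x
        invFun := fun x => q.symm x
        left_inv := fun x => q.symm_apply_apply x
        right_inv := fun x => q.apply_symm_apply x
        map_add' := fun x y => q.map_add x y
        map_smul' := fun c x => by
          induction (show ((ModuleCat.restrictScalars φ.hom).obj (ModuleCat.of S S)) ⊗[R] N from x)
            using TensorProduct.induction_on with
          | zero => erw [smul_zero, q.map_zero, smul_zero]
          | tmul a m => rfl
          | add x y hx hy => erw [smul_add, q.map_add, hx, hy, q.map_add, smul_add] }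
  exact ⟨d.trans (LocalizedModule.equivTensorProduct (.powers r) N).symm⟩

/-- A map becoming bijective after inverting `r` gives an isomorphism of `tilde` pulled back to `D(r)`. -/
theorem isIso_pullback_tilde_map {R : CommRingCat.{u}} {N N' : ModuleCat.{u} R} (φ : N ⟶ N') (r : R)
    (h : Function.Bijective (LocalizedModule.map (Submonoid.powers r) φ.hom)) :
    IsIso ((Scheme.Modules.pullback (Spec.map (CommRingCat.ofHom (algebraMap R (Localization (Submonoid.powers r)))))).map
      ((tilde.functor R).map φ)) := by
  let ψ : R ⟶ CommRingCat.of (Localization (Submonoid.powers r)) := CommRingCat.ofHom (algebraMap R (Localization (Submonoid.powers r)))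
  have key : IsIso ((ModuleCat.extendScalars ψ.hom).map φ) := by
    have hb : Function.Bijective (φ.hom.lTensor (Localization (Submonoid.powers r))) := by
      let e := LocalizedModule.equivTensorProduct (Submonoid.powers r) N
      let e' := LocalizedModule.equivTensorProduct (Submonoid.powers r) N'
      have hcomm : ∀ z, φ.hom.lTensor (Localization (Submonoid.powers r)) (e z) = e' (LocalizedModule.map _ φ.hom z) := fun z => by
        induction z using LocalizedModule.induction_on with
        | h m s => simp [e, e', LocalizedModule.map_mk, LinearMap.lTensor_tmul]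
      refine (Function.Bijective.of_comp_iff _ e.bijective).1 ?_
      rw [show φ.hom.lTensor (Localization (Submonoid.powers r)) ∘ e = e' ∘ LocalizedModule.map _ φ.hom from funext hcomm]
      exact e'.bijective.comp h
    rw [ConcreteCategory.isIso_iff_bijective]
    let g : ((ModuleCat.restrictScalars ψ.hom).obj (ModuleCat.of _ (Localization (Submonoid.powers r)))) ≃ₗ[R] Localization (Submonoid.powers r) :=
      { toFun := fun x => x
        invFun := fun x => x
        left_inv := fun _ => rfl
        right_inv := fun _ => rfl
        map_add' := fun _ _ => rfl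
        map_smul' := fun a x =>
          (Algebra.smul_def (A := Localization (Submonoid.powers r)) a
            (show Localization (Submonoid.powers r) from x)).symm }
    let q := TensorProduct.congr g (LinearEquiv.refl R N)
    let q' := TensorProduct.congr g (LinearEquiv.refl R N')
    have hq : ∀ z, q' ((ModuleCat.extendScalars ψ.hom).map φ z) = φ.hom.lTensor _ (q z) := fun z => by
      induction (show ((ModuleCat.restrictScalars ψ.hom).obj (ModuleCat.of _ (Localization (Submonoid.powers r)))) ⊗[R] N from z)
        using TensorProduct.induction_on with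
      | zero => erw [map_zero]
      | tmul a m => rfl
      | add x y hx hy => erw [map_add, map_add, hx, hy, map_add, map_add]
    refine (Function.Bijective.of_comp_iff' q'.bijective _).1 ?_
    exact (show (q' ∘ (ModuleCat.extendScalars ψ.hom).map φ) = φ.hom.lTensor _ ∘ q from funext hq) ▸ hb.comp q.bijective
  exact (NatIso.isIso_map_iff (tildePullbackIso ψ) φ).2
    (inferInstanceAs (IsIso ((tilde.functor _).map ((ModuleCat.extendScalars ψ.hom).map φ))))

theorem isIso_restrict_of_cover {X : Scheme.{u}} {M N : X.Modules} (f : M ⟶ N) (U : X.Opens)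
    (h : ∀ x : X, x ∈ U → ∃ (Z : Scheme.{u}) (j : Z ⟶ X) (_ : IsOpenImmersion j) (z : Z),
      j z = x ∧ IsIso ((Scheme.Modules.restrictFunctor j).map f)) :
    IsIso ((Scheme.Modules.restrictFunctor U.ι).map f) := by
  rw [isIso_iff_stalk]
  intro x
  obtain ⟨Z, j, _, z, hz, hiso⟩ := h (U.ι x) x.2
  have e1 := (isIso_iff_stalk _).1 hiso z
  rw [← ConcreteCategory.isIso_iff_bijective] at e1 ⊢
  refine (NatIso.isIso_map_iff (Scheme.Modules.restrictStalkNatIso U.ι x) f).2 ?_
  have e2 := (NatIso.isIso_map_iff (Scheme.Modules.restrictStalkNatIso j z) f).1 e1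
  rw [hz] at e2
  exact e2

section model

variable (I : Ideal A)

theorem isCompact_puncturedOpen (gs : Finset A) (hgs : Ideal.span (gs : Set A) = I) :
    IsCompact ((LocCoh.puncturedOpen A I) : Set (Spec (CommRingCat.of A))) := by
  show IsCompact (PrimeSpectrum.zeroLocus (R := A) (I : Set A))ᶜ
  rw [show (PrimeSpectrum.zeroLocus (R := A) (I : Set A))ᶜ = ⋃ g ∈ gs, (PrimeSpectrum.basicOpen g : Set (PrimeSpectrum A)) by
    rw [← hgs, PrimeSpectrum.zeroLocus_span]
    ext x
    simp [PrimeSpectrum.mem_zeroLocus, Set.not_subset]]
  exact Finset.isCompact_biUnion gs fun g _ => PrimeSpectrum.isCompact_basicOpen g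

theorem quasiCompact_puncturedOpen (hI : I.FG) : QuasiCompact (LocCoh.puncturedOpen A I).ι := by
  obtain ⟨gs, hgs⟩ := hI
  exact quasiCompact_ι _ fun V hV =>
    QuasiSeparatedSpace.inter_isCompact _ _ (LocCoh.puncturedOpen A I).isOpen (isCompact_puncturedOpen I gs hgs)
      V.isOpen hV.isCompact

/-- Quasi-coherent modules on an open with quasi-compact inclusion extend as `tilde`. -/
theorem exists_tilde_extension {R : CommRingCat.{u}} (U : (Spec R).Opens) [QuasiCompact U.ι]
    (F : (U : Scheme.{u}).Modules) (hF : Coh.IsQCoh F) :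
    ∃ M : ModuleCat.{u} R, Nonempty ((tilde M).restrict U.ι ≅ F) := by
  have hQ : Coh.IsQCoh ((Scheme.Modules.pushforward U.ι).obj F) := isQCoh_push U.ι hF
  have hiso : IsIso ((Scheme.Modules.pushforward U.ι).obj F).fromTildeΓ :=
    @Scheme.Modules.isIso_fromTildeΓ_of_isQuasicoherent R _ hQ
  exact ⟨moduleSpecΓFunctor.obj ((Scheme.Modules.pushforward U.ι).obj F),
    ⟨(Scheme.Modules.restrictFunctor U.ι).mapIso (@asIso _ _ _ _ ((Scheme.Modules.pushforward U.ι).obj F).fromTildeΓ hiso) ≪≫
    pushRestrictIso (IsKernelPair.id_of_mono U.ι) F ≪≫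
    (Scheme.Modules.pushforwardId _).app _ ≪≫ (Scheme.Modules.restrictFunctorId).app F⟩⟩

/-- Over a basic open where the restriction is finite locally free, the localised module is finite projective. -/
theorem projective_localized_of_restrict {R : CommRingCat.{u}} (U : (Spec R).Opens) (M : ModuleCat.{u} R)
    (hM : FlatMod.IsFinLocFree ((tilde M).restrict U.ι)) (g : R)
    (hg : PrimeSpectrum.basicOpen g ≤ U) :
    Module.FinitePresentation (Localization (Submonoid.powers g)) (LocalizedModule (Submonoid.powers g) M) ∧
      Module.Projective (Localization (Submonoid.powers g)) (LocalizedModule (Submonoid.powers g) M) := by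
  let ψ : R ⟶ CommRingCat.of (Localization (Submonoid.powers g)) := CommRingCat.ofHom (algebraMap R (Localization (Submonoid.powers g)))
  haveI : IsOpenImmersion (Spec.map ψ) := IsOpenImmersion.of_isLocalization g
  have hrange : Set.range (Spec.map ψ) ⊆ Set.range U.ι := by
    rw [Scheme.Opens.range_ι]
    show Set.range (PrimeSpectrum.comap (algebraMap R (Localization (Submonoid.powers g)))) ⊆ _
    rw [PrimeSpectrum.localization_away_comap_range (S := Localization.Away g) g]
    exact hg
  let l := IsOpenImmersion.lift U.ι (Spec.map ψ) hrange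
  let E := (ModuleCat.extendScalars ψ.hom).obj M
  let eE : ((tilde M).restrict U.ι).restrict l ≅ tilde E :=
    restrictLiftIso (tilde M) U.ι (Spec.map ψ) hrange ≪≫
      (Scheme.Modules.restrictFunctorIsoPullback (Spec.map ψ)).app (tilde M) ≪≫ tildePullbackObjIso ψ M
  have hflf : FlatMod.IsFinLocFree (tilde E) := isFinLocFree_of_iso eE (isFinLocFree_restrict l hM)
  haveI : Module.FinitePresentation (Localization (Submonoid.powers g)) E :=
    finitePresentation_of_isFP_tilde E (isFP_of_isFinLocFree hflf)
  haveI : Module.Flat (Localization (Submonoid.powers g)) E := flat_of_isFinLocFree_tilde E hflf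
  haveI : Module.Projective (Localization (Submonoid.powers g)) E := Module.Flat.projective_of_finitePresentation
  obtain ⟨e⟩ := nonempty_extend_equiv M g
  exact ⟨finitePresentation_of_linearEquiv e, Module.Projective.of_equiv e⟩

/-- Bijectivity after inverting generators gives bijectivity after inverting any element of the ideal. -/
theorem bijective_map_of_generators {M₀ M : Type u} [AddCommGroup M₀] [Module A M₀] [AddCommGroup M] [Module A M]
    (φ : M₀ →ₗ[A] M) (gs : Finset A) (hgs : Ideal.span (gs : Set A) = I)
    (hφ : ∀ g ∈ gs, Function.Bijective (LocalizedModule.map (Submonoid.powers g) φ)) {f : A} (hf : f ∈ I) :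
    Function.Bijective (LocalizedModule.map (Submonoid.powers f) φ) := by
  have hann : ∀ {X : Type u} [AddCommGroup X] [Module A X] (x : X),
      (∀ g ∈ gs, ∃ k : ℕ, g ^ k • x = 0) → ∃ k : ℕ, f ^ k • x = 0 := fun {X} _ _ x hx => by
    have hle : I ≤ Ideal.radical (LinearMap.ker (LinearMap.toSpanSingleton A X x)) := by
      rw [← hgs]
      refine Submodule.span_le.2 fun g hg => ?_
      obtain ⟨k, hk⟩ := hx g hg
      exact ⟨k, by simpa using hk⟩
    obtain ⟨k, hk⟩ := hle hf
    exact ⟨k, by simpa using hk⟩
  refine ⟨(injective_iff_map_eq_zero _).2 fun y hy => ?_, fun y => ?_⟩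
  · induction y using LocalizedModule.induction_on with
    | h x r =>
      rw [LocalizedModule.map_mk, mk_eq_zero_iff'] at hy
      obtain ⟨⟨_, l, rfl⟩, hl⟩ := hy
      have hl' : φ (f ^ l • x) = 0 := by rw [map_smul]; exact hl
      obtain ⟨k, hk⟩ := hann (f ^ l • x) fun g hg => by
        have : LocalizedModule.mk (f ^ l • x) (1 : Submonoid.powers g) = 0 :=
          (hφ g hg).1 (by rw [LocalizedModule.map_mk, hl', LocalizedModule.zero_mk, map_zero])
        obtain ⟨⟨_, k, rfl⟩, hk⟩ := (mk_eq_zero_iff' _ _).1 this
        exact ⟨k, hk⟩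
      rw [mk_eq_zero_iff']
      refine ⟨⟨f ^ (k + l), k + l, rfl⟩, ?_⟩
      show f ^ (k + l) • x = 0
      rw [pow_add, mul_smul, hk]
  · induction y using LocalizedModule.induction_on with
    | h m r =>
      obtain ⟨k, hk⟩ := hann (Submodule.Quotient.mk m : M ⧸ LinearMap.range φ) fun g hg => by
        obtain ⟨z, hz⟩ := (hφ g hg).2 (LocalizedModule.mk m 1)
        induction z using LocalizedModule.induction_on with
        | h x s =>
          rw [LocalizedModule.map_mk, LocalizedModule.mk_eq] at hz
          obtain ⟨⟨_, l, rfl⟩, hl⟩ := hz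
          obtain ⟨k, hk⟩ := s.2
          refine ⟨l + k, ?_⟩
          rw [← Submodule.Quotient.mk_smul, Submodule.Quotient.mk_eq_zero]
          refine ⟨g ^ l • x, ?_⟩
          have hl' : g ^ l • φ x = g ^ l • ((s : A) • m) := by simpa [Submonoid.smul_def] using hl
          rw [map_smul, hl', pow_add, mul_smul, show g ^ k = (s : A) from hk]
      rw [← Submodule.Quotient.mk_smul, Submodule.Quotient.mk_eq_zero] at hk
      obtain ⟨x, hx⟩ := hk
      refine ⟨LocalizedModule.mk x ((⟨f ^ k, k, rfl⟩ : Submonoid.powers f) * r), ?_⟩
      rw [LocalizedModule.map_mk, hx]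
      exact LocalizedModule.mk_cancel_common_left (⟨f ^ k, k, rfl⟩ : Submonoid.powers f) r m

/-- Isomorphism on the punctured spectrum from bijectivity after inverting generators. -/
theorem isIso_restrict_tilde_map {M₀ M : ModuleCat.{u} (CommRingCat.of A)} (Φ : M₀ ⟶ M) (gs : Finset A)
    (hgs : Ideal.span (gs : Set A) = I)
    (hφ : ∀ g ∈ gs, Function.Bijective (LocalizedModule.map (Submonoid.powers g) Φ.hom)) :
    IsIso ((Scheme.Modules.restrictFunctor (LocCoh.puncturedOpen A I).ι).map ((tilde.functor (CommRingCat.of A)).map Φ)) :=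
  isIso_restrict_of_cover _ _ fun x hx => by
    let R := CommRingCat.of A
    obtain ⟨g, hg, hxg⟩ : ∃ g ∈ gs, g ∉ (show PrimeSpectrum A from x).asIdeal := by
      by_contra! hcon
      exact hx (show (I : Set A) ⊆ _ from hgs ▸ Submodule.span_le.2 hcon)
    let ψ : R ⟶ CommRingCat.of (Localization (Submonoid.powers (g : R))) := CommRingCat.ofHom (algebraMap R (Localization (Submonoid.powers (g : R))))
    haveI : IsOpenImmersion (Spec.map ψ) := IsOpenImmersion.of_isLocalization (g : R)
    have hmem : x ∈ Set.range (Spec.map ψ) := by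
      show x ∈ Set.range (PrimeSpectrum.comap (algebraMap A (Localization (Submonoid.powers g))))
      rw [PrimeSpectrum.localization_away_comap_range (S := Localization.Away g) g]
      exact hxg
    obtain ⟨z, hz⟩ := hmem
    refine ⟨_, Spec.map ψ, inferInstance, z, hz, ?_⟩
    exact (NatIso.isIso_map_iff (Scheme.Modules.restrictFunctorIsoPullback (Spec.map ψ)) _).2
      (isIso_pullback_tilde_map Φ (g : R) (hφ g hg))

/-- A finite locally free module on a quasi-compact punctured affine scheme comes from a finitely presented
module which is projective after inverting any element of the ideal. -/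
theorem exists_model (F : (↑(LocCoh.puncturedOpen A I) : Scheme.{u}).Modules) (hI : I.FG) (hF : FlatMod.IsFinLocFree F) :
    ∃ (N : ModuleCat.{u} A) (_ : Module.FinitePresentation A N),
      (∀ f ∈ I, Module.Projective (Localization (Submonoid.powers f)) (LocalizedModule (Submonoid.powers f) N)) ∧
      Nonempty ((tilde (R := CommRingCat.of A) N).restrict (LocCoh.puncturedOpen A I).ι ≅ F) := by
  haveI := quasiCompact_puncturedOpen I hI
  obtain ⟨gs, hgs⟩ := hI
  obtain ⟨M, ⟨eG⟩⟩ := exists_tilde_extension (LocCoh.puncturedOpen A I) F (isQCoh_of_isFinLocFree hF)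
  have hMf : FlatMod.IsFinLocFree ((tilde M).restrict (LocCoh.puncturedOpen A I).ι) := isFinLocFree_of_iso eG.symm hF
  have hloc : ∀ g ∈ I, Module.FinitePresentation (Localization (Submonoid.powers g)) (LocalizedModule (Submonoid.powers g) M) ∧
      Module.Projective (Localization (Submonoid.powers g)) (LocalizedModule (Submonoid.powers g) M) := fun g hg =>
    projective_localized_of_restrict (R := CommRingCat.of A) _ M hMf g fun x hx hxI => hx (hxI hg)
  obtain ⟨M₀, _, _, _, φ, hφ⟩ := exists_fp_model (A := A) M gs fun g hg => (hloc g (hgs ▸ Submodule.subset_span hg)).1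
  refine ⟨ModuleCat.of A M₀, ‹_›, fun f hf => ?_, ?_⟩
  · haveI := (hloc f hf).2
    exact Module.Projective.of_equiv (LinearEquiv.ofBijective (LocalizedModule.map (Submonoid.powers f) φ)
      (bijective_map_of_generators I φ gs hgs hφ hf)).symm
  · exact ⟨@asIso _ _ _ _ _ (isIso_restrict_tilde_map I (M₀ := ModuleCat.of A M₀) (M := M) (ModuleCat.ofHom φ)
      gs hgs hφ) ≪≫ eG⟩

end model

end Groth.Agent.PunctFree27
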