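import Groth.Agent.Lib.PunctFree27.Scheme

/-!
# Coherent modules on punctured spectra of Noetherian rings come from finite modules
-/

set_option autoImplicit false
universe u

open CategoryTheory Limits AlgebraicGeometry Opposite TopologicalSpace

noncomputable section

namespace Groth.Agent.PunctFree27

open Groth.Agent.M1 Groth.Agent.M2

variable {A : Type u} [CommRing A] [IsNoetherianRing A] (I : Ideal A)

theorem exists_finite_model (F : (↑(LocCoh.puncturedOpen A I) : Scheme.{u}).Modules) (hF : Coh.IsCoh F) :
    ∃ (N : ModuleCat.{u} A) (_ : Module.Finite A N),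
      Nonempty ((tilde (R := CommRingCat.of A) N).restrict (LocCoh.puncturedOpen A I).ι ≅ F) := by
  have hI : I.FG := IsNoetherian.noetherian I
  haveI := quasiCompact_puncturedOpen I hI
  obtain ⟨gs, hgs⟩ := hI
  let R := CommRingCat.of A
  obtain ⟨M, ⟨eG⟩⟩ := exists_tilde_extension (LocCoh.puncturedOpen A I) F hF.1
  have hfp : ∀ g ∈ gs, Module.FinitePresentation (Localization (Submonoid.powers g)) (LocalizedModule (Submonoid.powers g) M) := by
    intro g hg
    let ψ : R ⟶ CommRingCat.of (Localization (Submonoid.powers (g : R))) := CommRingCat.ofHom (algebraMap R (Localization (Submonoid.powers (g : R))))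
    haveI : IsOpenImmersion (Spec.map ψ) := IsOpenImmersion.of_isLocalization (g : R)
    have hrange : Set.range (Spec.map ψ) ⊆ Set.range (LocCoh.puncturedOpen A I).ι := by
      rw [Scheme.Opens.range_ι]
      show Set.range (PrimeSpectrum.comap (algebraMap A (Localization (Submonoid.powers g)))) ⊆ _
      rw [PrimeSpectrum.localization_away_comap_range (S := Localization.Away g) g]
      exact fun x hx hxI => hx (hxI (hgs ▸ Submodule.subset_span hg))
    let l := IsOpenImmersion.lift (LocCoh.puncturedOpen A I).ι (Spec.map ψ) hrange
    let E := (ModuleCat.extendScalars ψ.hom).obj M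
    let eE : F.restrict l ≅ tilde E :=
      (Scheme.Modules.restrictFunctor l).mapIso eG.symm ≪≫
        restrictLiftIso (tilde M) (LocCoh.puncturedOpen A I).ι (Spec.map ψ) hrange ≪≫
          (Scheme.Modules.restrictFunctorIsoPullback (Spec.map ψ)).app (tilde M) ≪≫ tildePullbackObjIso ψ M
    haveI : Module.Finite (Localization (Submonoid.powers (g : R))) E :=
      finite_of_isFT_tilde E (isFT_of_isIso eE (isFT_restrict hF.2 l))
    obtain ⟨e⟩ := nonempty_extend_equiv M (g : R)
    haveI : Module.Finite (Localization (Submonoid.powers g)) (LocalizedModule (Submonoid.powers g) M) := Module.Finite.equiv e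
    haveI : IsNoetherianRing (Localization (Submonoid.powers g)) :=
      IsLocalization.isNoetherianRing (Submonoid.powers g) _ inferInstance
    exact Module.finitePresentation_of_finite _ _
  obtain ⟨M₀, _, _, _, φ, hφ⟩ := exists_fp_model (A := A) M gs hfp
  refine ⟨ModuleCat.of A M₀, inferInstance, ⟨@asIso _ _ _ _ _ (isIso_restrict_tilde_map I (M₀ := ModuleCat.of A M₀) (M := M)
    (ModuleCat.ofHom φ) gs hgs hφ) ≪≫ eG⟩⟩

end Groth.Agent.PunctFree27
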