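import Groth.Agent.Lib.PunctFree27.Scheme
import Mathlib.RingTheory.Ideal.Operations

/-!
# Powers of `J` killing the cohomology of finite locally free modules on a punctured affine scheme
-/

set_option autoImplicit false
universe u

open CategoryTheory Limits AlgebraicGeometry Opposite TopologicalSpace

noncomputable section

namespace Groth.Agent.PunctFree27

open Groth.Agent.M1 Groth.Agent.M2 Groth.Agent.CurveCoh17

variable {A : Type u} [CommRing A] (I : Ideal A)

/-- `tilde` restricted to the punctured spectrum. -/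
abbrev punctF : ModuleCat.{u} (CommRingCat.of A) ⥤ (↑(LocCoh.puncturedOpen A I) : Scheme.{u}).Modules :=
  tilde.functor (CommRingCat.of A) ⋙ Scheme.Modules.restrictFunctor (LocCoh.puncturedOpen A I).ι

instance : (punctF I).Additive where
  map_add {M N f g} := by
    show (Scheme.Modules.restrictFunctor _).map (tilde.map (R := CommRingCat.of A) (f + g)) = _
    rw [tilde.map_add, Functor.map_add]
    rfl

theorem hmap_punctF_smul (N : ModuleCat.{u} (CommRingCat.of A)) (c : A) (p : ℕ)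
    (x : Coh.HH (↑(LocCoh.puncturedOpen A I)) ((punctF I).obj N) p) :
    hmap₀ ((punctF I).map (ModuleCat.ofHom (c • LinearMap.id : N →ₗ[A] N))) p x = c • x := by
  rw [Functor.comp_map, tilde_map_smul (R := CommRingCat.of A) N c]
  exact (congrArg (fun φ => hmap₀ φ p x) (restrict_map_smulModΓ _ (tilde N) _)).trans (hmap₀_smulModΓ _ _ _ x)

theorem hmap_punctF_zero {N N' : ModuleCat.{u} (CommRingCat.of A)} (p : ℕ)
    (x : Coh.HH (↑(LocCoh.puncturedOpen A I)) ((punctF I).obj N) p) :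
    hmap₀ ((punctF I).map (0 : N ⟶ N')) p x = 0 := by
  have h := hmap₀_add ((punctF I).map (0 : N ⟶ N')) ((punctF I).map (0 : N ⟶ N')) p x
  rw [← Functor.map_add, add_zero] at h
  exact left_eq_add.1 h

theorem hmap_punctF_comp {N N' N'' : ModuleCat.{u} (CommRingCat.of A)} (φ : N ⟶ N') (ψ : N' ⟶ N'') (p : ℕ)
    (x : Coh.HH (↑(LocCoh.puncturedOpen A I)) ((punctF I).obj N) p) :
    hmap₀ ((punctF I).map (φ ≫ ψ)) p x = hmap₀ ((punctF I).map ψ) p (hmap₀ ((punctF I).map φ) p x) := by
  rw [Functor.map_comp]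
  exact CurveCoh17.hmap_comp A _ _ p x

theorem hmap_smul' {M N : (↑(LocCoh.puncturedOpen A I) : Scheme.{u}).Modules} (φ : M ⟶ N) (p : ℕ) (c : A)
    (x : Coh.HH (↑(LocCoh.puncturedOpen A I)) M p) : hmap₀ φ p (c • x) = c • hmap₀ φ p x :=
  hmap₀_smul φ p _ x

/-- Finite locally free modules inherit annihilation from the structure sheaf. -/
theorem exists_pow_annihilates (J : Ideal A) (hJI : J ≤ I) (hJ : J.FG) (hI : I.FG) (p n : ℕ)
    (hO : ∀ a ∈ J ^ n, ∀ x : Coh.HH (↑(LocCoh.puncturedOpen A I)) (Coh.structureModule (↑(LocCoh.puncturedOpen A I))) p,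
      a • x = 0)
    (F : (↑(LocCoh.puncturedOpen A I) : Scheme.{u}).Modules) (hF : FlatMod.IsFinLocFree F) :
    ∃ m : ℕ, ∀ a ∈ J ^ m, ∀ x : Coh.HH (↑(LocCoh.puncturedOpen A I)) F p, a • x = 0 := by
  classical
  obtain ⟨N, hN, hproj, ⟨e⟩⟩ := exists_model I F hI hF
  let Z := ModuleCat.of (CommRingCat.of A) A
  let eA : (punctF I).obj Z ≅ Coh.structureModule (↑(LocCoh.puncturedOpen A I)) :=
    (Scheme.Modules.restrictFunctor (LocCoh.puncturedOpen A I).ι).mapIso (tildeSelf (R := CommRingCat.of A)) ≪≫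
      (unitRestrictIso (LocCoh.puncturedOpen A I).ι).symm
  have hZ : ∀ a ∈ J ^ n, ∀ y : Coh.HH (↑(LocCoh.puncturedOpen A I)) ((punctF I).obj Z) p, a • y = 0 := fun a ha y => by
    have h1 : hmap₀ (eA.hom ≫ eA.inv) p (a • y) = a • y := by
      rw [Iso.hom_inv_id]
      exact CurveCoh17.hmap_id A _ p _
    rw [← h1]
    refine (CurveCoh17.hmap_comp A eA.hom eA.inv p _).trans ?_
    show hmap₀ eA.inv p (hmap₀ eA.hom p (a • y)) = 0
    rw [hmap_smul', hO a ha, map_zero]
  obtain ⟨r, π, hπ⟩ := Module.Finite.exists_fin' A N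
  -- the elements killing `J^n H^p(F)`
  let B : Ideal A := ⨅ a : ↥(J ^ n), ⨅ x : Coh.HH (↑(LocCoh.puncturedOpen A I)) F p,
    (LinearMap.ker (LinearMap.toSpanSingleton A (Coh.HH (↑(LocCoh.puncturedOpen A I)) F p) ((a : A) • x)))
  have hB : J ≤ B.radical := fun f hf => by
    haveI := hproj f (hJI hf)
    obtain ⟨k, s, hs⟩ := exists_factor_free f π hπ
    refine ⟨k, (Submodule.mem_iInf _).2 fun a => (Submodule.mem_iInf _).2 fun x => ?_⟩
    rw [LinearMap.mem_ker, LinearMap.toSpanSingleton_apply, smul_comm]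
    obtain ⟨y, rfl⟩ : ∃ y, hmap₀ e.hom p y = x := ⟨hmap₀ e.inv p x, by
      refine (CurveCoh17.hmap_comp A e.inv e.hom p x).symm.trans ?_
      rw [Iso.inv_hom_id]
      exact CurveCoh17.hmap_id A F p x⟩
    rw [← hmap_smul', ← hmap_smul']
    suffices h : (a : A) • f ^ k • y = 0 by rw [h, map_zero]
    have hsum : ModuleCat.ofHom (f ^ k • LinearMap.id : N →ₗ[A] N) =
        ∑ j, (ModuleCat.ofHom (LinearMap.proj j ∘ₗ s) : N ⟶ Z) ≫
          (ModuleCat.ofHom (π ∘ₗ LinearMap.single A (fun _ : Fin r => A) j) : Z ⟶ N) := by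
      rw [← hs]
      ext m
      simp only [ModuleCat.hom_sum, LinearMap.sum_apply, ModuleCat.hom_comp, ModuleCat.hom_ofHom, LinearMap.comp_apply,
        LinearMap.proj_apply, LinearMap.single_apply]
      rw [← map_sum, Finset.univ_sum_single]
    refine (congrArg ((a : A) • ·) (((hmap_punctF_smul I N (f ^ k) p y).symm).trans
      (congrArg (fun φ => hmap₀ ((punctF I).map φ) p y) hsum))).trans ?_
    suffices key : ∀ t : Finset (Fin r), (a : A) • hmap₀ ((punctF I).map (∑ j ∈ t,
        (ModuleCat.ofHom (LinearMap.proj j ∘ₗ s) : N ⟶ Z) ≫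
          (ModuleCat.ofHom (π ∘ₗ LinearMap.single A (fun _ : Fin r => A) j) : Z ⟶ N))) p y = 0 from key Finset.univ
    intro t
    induction t using Finset.induction_on with
    | empty => rw [Finset.sum_empty, hmap_punctF_zero, smul_zero]
    | insert j t hj ih =>
      rw [Finset.sum_insert hj, Functor.map_add, hmap₀_add, smul_add, ih, add_zero, hmap_punctF_comp, ← hmap_smul',
        hZ _ a.2, map_zero]
  obtain ⟨M, hM⟩ := Ideal.exists_pow_le_of_le_radical_of_fg hB hJ
  refine ⟨n + M, fun a ha x => ?_⟩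
  rw [pow_add] at ha
  refine Submodule.mul_induction_on ha (fun b hb c hc => ?_) fun b c hb hc => by rw [add_smul, hb, hc, add_zero]
  have hc' := (Submodule.mem_iInf _).1 ((Submodule.mem_iInf _).1 (hM hc) ⟨b, hb⟩) x
  rw [LinearMap.mem_ker, LinearMap.toSpanSingleton_apply] at hc'
  rw [mul_comm, mul_smul]
  exact hc'

end Groth.Agent.PunctFree27
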