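import Groth.Agent.Lib.LocCoh.PunctCoh27
import Groth.Agent.Lib.LocCoh.Grade

/-!
# Finiteness of sections of vector bundles on punctured spectra in depth two
-/

set_option autoImplicit false
universe u

open CategoryTheory Limits AlgebraicGeometry Opposite TopologicalSpace

noncomputable section

namespace Groth.Agent.PunctFree27

open Groth.Agent.LocCohSheafLib Groth.Agent.CurveCoh17 Groth.Agent.LocCohLib Groth.Agent.InjHullLib

variable {A : Type u} [CommRing A] [IsNoetherianRing A] (I : Ideal A)

theorem finite_sec_self (hI : (2 : ℕ∞) ≤ LocCoh.idealDepth I A) :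
    Module.Finite A (Sec A (LocCoh.puncturedOpen A I)) := by
  have h0 : Subsingleton (LocCoh.H I 1 A) :=
    haveI := subsingleton_pi_of_lt_idealDepth I (i := 1) (lt_of_lt_of_le (by norm_num) hI) 1
    (hcongr I 1 (LinearEquiv.funUnique (Fin 1) A A)).symm.toEquiv.subsingleton
  obtain ⟨e⟩ := nonempty_coker_toS_equiv I A
  haveI := e.toEquiv.subsingleton
  refine Module.Finite.of_surjective (toS A (LocCoh.puncturedOpen A I)) fun x => ?_
  exact (Submodule.Quotient.mk_eq_zero _).1 (Subsingleton.elim (Submodule.Quotient.mk x :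
    Sec A (LocCoh.puncturedOpen A I) ⧸ LinearMap.range (toS A (LocCoh.puncturedOpen A I))) 0)

theorem secMap_add {M N : Type u} [AddCommGroup M] [Module A M] [AddCommGroup N] [Module A N] (φ ψ : M →ₗ[A] N)
    (W : (Spec (CommRingCat.of A)).Opens) (s : Sec M W) : secMap (φ + ψ) W s = secMap φ W s + secMap ψ W s := by
  have h : tilde.map (R := CommRingCat.of A) (ModuleCat.ofHom (φ + ψ)) =
      tilde.map (ModuleCat.ofHom φ) + tilde.map (ModuleCat.ofHom ψ) :=
    tilde.map_add (R := CommRingCat.of A) (ModuleCat.ofHom φ) (ModuleCat.ofHom ψ)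
  exact (congrArg (fun q => Scheme.Modules.Hom.app q W s) h).trans rfl

theorem finite_sections (hI : (2 : ℕ∞) ≤ LocCoh.idealDepth I A)
    (L : (↑(LocCoh.puncturedOpen A I) : Scheme.{u}).Modules) (hL : FlatMod.IsFinLocFree L) :
    Module.Finite A (Coh.HH (↑(LocCoh.puncturedOpen A I)) L 0) := by
  classical
  obtain ⟨N, hN, hproj, ⟨eN⟩⟩ := exists_model I L (IsNoetherian.noetherian I) hL
  obtain ⟨r, π, hπ⟩ := Module.Finite.exists_fin' A N
  obtain ⟨gs, hgs⟩ : I.FG := IsNoetherian.noetherian I
  have hg : ∀ g : gs, ∃ (k : ℕ) (s : N →ₗ[A] (Fin r → A)), π ∘ₗ s = (g : A) ^ k • LinearMap.id := fun g => by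
    haveI := hproj g (hgs ▸ Submodule.subset_span g.2)
    exact exists_factor_free (g : A) π hπ
  choose k s hs using hg
  set U := LocCoh.puncturedOpen A I
  haveI := finite_sec_self I hI
  haveI := isNoetherian_of_isNoetherianRing_of_finite A (Sec A U)
  let Ψ : Sec N U →ₗ[A] (gs → Fin r → Sec A U) :=
    LinearMap.pi fun g => LinearMap.pi fun j => secMap (LinearMap.proj j ∘ₗ s g) U
  have hΨ : Function.Injective Ψ := by
    rw [injective_iff_map_eq_zero]
    intro x hx
    have hkill : ∀ g : gs, (g : A) ^ k g • x = 0 := fun g => by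
      have key : ∀ t : Finset (Fin r), secMap (∑ j ∈ t, (π ∘ₗ LinearMap.single A (fun _ => A) j) ∘ₗ
          (LinearMap.proj j ∘ₗ s g)) U x = 0 := fun t => by
        induction t using Finset.induction_on with
        | empty =>
          rw [Finset.sum_empty, ← zero_smul A (LinearMap.id : N →ₗ[A] N), secMap_smul_id, zero_smul]
        | insert j t hj ih =>
          rw [Finset.sum_insert hj, secMap_add, ih, add_zero, secMap_comp]
          exact (congrArg _ (congrFun (congrFun hx g) j)).trans (map_zero _)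
      have hsum : (∑ j, (π ∘ₗ LinearMap.single A (fun _ => A) j) ∘ₗ (LinearMap.proj j ∘ₗ s g)) =
          ((g : A) ^ k g • LinearMap.id : N →ₗ[A] N) := by
        rw [← hs g]
        refine LinearMap.ext fun m => ?_
        simp only [LinearMap.sum_apply, LinearMap.comp_apply, LinearMap.proj_apply, LinearMap.single_apply]
        rw [← map_sum, Finset.univ_sum_single]
      rw [← secMap_smul_id, ← hsum]
      exact key Finset.univ
    have hle : I ≤ Ideal.radical (LinearMap.ker (LinearMap.toSpanSingleton A _ x)) := by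
      rw [← hgs]
      exact Submodule.span_le.2 fun g hg => ⟨k ⟨g, hg⟩, LinearMap.mem_ker.2 (hkill ⟨g, hg⟩)⟩
    obtain ⟨n, hn⟩ := Ideal.exists_pow_le_of_le_radical_of_fg hle (IsNoetherian.noetherian I)
    exact eq_zero_of_pow_smul I x n fun a ha => LinearMap.mem_ker.1 (hn ha)
  haveI := Module.Finite.of_injective Ψ hΨ
  haveI := Module.Finite.equiv (secTopH I N).symm
  exact Module.Finite.equiv (CurveCoh17.hequiv A eN 0)

/-- Finiteness over the ring of global functions. -/
theorem finite_Γtop (hI : (2 : ℕ∞) ≤ LocCoh.idealDepth I A)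
    (L : (↑(LocCoh.puncturedOpen A I) : Scheme.{u}).Modules) (hL : FlatMod.IsFinLocFree L) :
    Module.Finite ((↑(LocCoh.puncturedOpen A I) : Scheme.{u}).ringCatSheaf.val.obj (op ⊤))
      (L.val.obj (op ⊤)) := by
  obtain ⟨t, ht⟩ := (finite_sections I hI L hL).fg_top
  classical
  refine ⟨⟨t.image fun z => (show L.val.obj (op ⊤) from hh0 L z), eq_top_iff.2 fun y _ => ?_⟩⟩
  obtain ⟨z, rfl⟩ : ∃ z, (show L.val.obj (op ⊤) from hh0 L z) = y := (hh0 L).surjective y
  refine Submodule.span_induction
    (p := fun z _ => (show L.val.obj (op ⊤) from hh0 L z) ∈ Submodule.span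
      ((↑(LocCoh.puncturedOpen A I) : Scheme.{u}).ringCatSheaf.val.obj (op ⊤))
      ↑(t.image fun z => (show L.val.obj (op ⊤) from hh0 L z)))
    (fun z hz => Submodule.subset_span (Finset.mem_coe.2 (Finset.mem_image_of_mem _ hz))) ?_ ?_ ?_
    (ht.ge (Submodule.mem_top (x := z)))
  · rw [map_zero]; exact zero_mem _
  · intro x y _ _ hx hy
    rw [map_add]; exact add_mem hx hy
  · intro c x _ hx
    rw [show hh0 L (c • x) = _ from hh0_smul _ _]
    exact Submodule.smul_mem _ _ hx

end Groth.Agent.PunctFree27
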