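import Mathlib.Algebra.Module.FinitePresentation
import Mathlib.Algebra.Module.LocalizedModule.Submodule
import Mathlib.RingTheory.Localization.Away.Basic
import Mathlib.RingTheory.Flat.EquationalCriterion

/-!
# A finitely presented model of a module finitely presented after inverting finitely many elements
-/

set_option autoImplicit false
universe u

namespace Groth.Agent.PunctFree27

variable {A : Type u} [CommRing A]

theorem mk_eq_zero_iff' {S : Submonoid A} {M : Type u} [AddCommGroup M] [Module A M] (m : M) (s : S) :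
    LocalizedModule.mk m s = 0 ↔ ∃ u : S, u • m = 0 := by
  rw [← LocalizedModule.zero_mk (1 : S), LocalizedModule.mk_eq]
  simp

theorem exists_fp_model (M : Type u) [AddCommGroup M] [Module A M] (gs : Finset A)
    (h : ∀ g ∈ gs, Module.FinitePresentation (Localization (Submonoid.powers g))
      (LocalizedModule (Submonoid.powers g) M)) :
    ∃ (M₀ : Type u) (_ : AddCommGroup M₀) (_ : Module A M₀) (_ : Module.FinitePresentation A M₀) (φ : M₀ →ₗ[A] M),
      ∀ g ∈ gs, Function.Bijective (LocalizedModule.map (Submonoid.powers g) φ) := by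
  classical
  have hgen : ∀ g : gs, ∃ t : Finset M, Submodule.span (Localization (Submonoid.powers (g : A)))
      (LocalizedModule.mkLinearMap (Submonoid.powers (g : A)) M '' (t : Set M)) = ⊤ := fun g => by
    haveI := h g g.2
    obtain ⟨t, ht⟩ := Module.Finite.fg_top (R := Localization (Submonoid.powers (g : A)))
      (M := LocalizedModule (Submonoid.powers (g : A)) M)
    refine ⟨t.image fun y => (IsLocalizedModule.surj (Submonoid.powers (g : A))
      (LocalizedModule.mkLinearMap (Submonoid.powers (g : A)) M) y).choose.1, eq_top_iff.2 (ht ▸ Submodule.span_le.2 ?_)⟩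
    intro y hy
    have hy' := (IsLocalizedModule.surj (Submonoid.powers (g : A))
      (LocalizedModule.mkLinearMap (Submonoid.powers (g : A)) M) y).choose_spec
    generalize hz : (IsLocalizedModule.surj (Submonoid.powers (g : A))
      (LocalizedModule.mkLinearMap (Submonoid.powers (g : A)) M) y).choose = z at hy'
    have hu : IsUnit (algebraMap A (Localization (Submonoid.powers (g : A))) z.2) :=
      IsLocalization.map_units _ z.2
    have hz' : algebraMap A (Localization (Submonoid.powers (g : A))) z.2 • y =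
        LocalizedModule.mkLinearMap (Submonoid.powers (g : A)) M z.1 := by
      rw [algebraMap_smul]
      exact hy'
    rw [SetLike.mem_coe, show y = (hu.unit⁻¹ : (Localization (Submonoid.powers (g : A)))ˣ).1 •
      LocalizedModule.mkLinearMap (Submonoid.powers (g : A)) M z.1 by
        rw [← hz', smul_smul, IsUnit.val_inv_mul, one_smul]]
    exact Submodule.smul_mem _ _ (Submodule.subset_span ⟨z.1, Finset.mem_coe.2 (Finset.mem_image.2 ⟨y, hy, by rw [hz]⟩), rfl⟩)
  choose t ht using hgen
  let T : Finset M := Finset.univ.biUnion t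
  let n := T.card
  let π : (Fin n → A) →ₗ[A] M := Fintype.linearCombination A fun i => (T.equivFin.symm i : M)
  have hπT : ∀ m ∈ T, ∃ c, π c = m := fun m hm =>
    ⟨Pi.single (T.equivFin ⟨m, hm⟩) 1, by simp [π]⟩
  have hsurj : ∀ g : gs, Function.Surjective (LocalizedModule.map (Submonoid.powers (g : A)) π) := fun g => by
    rw [← LinearMap.range_eq_top, eq_top_iff, ← ht g, Submodule.span_le]
    rintro _ ⟨m, hm, rfl⟩
    obtain ⟨c, rfl⟩ := hπT m (Finset.mem_biUnion.2 ⟨g, Finset.mem_univ _, hm⟩)
    exact ⟨LocalizedModule.mk c 1, LocalizedModule.map_mk _ _ _ _⟩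
  have hker : ∀ g : gs, ∃ S : Finset (Fin n → A), (∀ c ∈ S, π c = 0) ∧
      ∀ c, π c = 0 → ∃ j : ℕ, (g : A) ^ j • c ∈ Submodule.span A (S : Set (Fin n → A)) := fun g => by
    haveI := h g g.2
    let P := Submonoid.powers (g : A)
    obtain ⟨s, hs⟩ := Module.FinitePresentation.fg_ker _ (hsurj g)
    have hrep : ∀ y ∈ s, ∃ c : Fin n → A, π c = 0 ∧ ∃ r : P, LocalizedModule.mk c r = y := fun y hy => by
      obtain ⟨⟨c, r⟩, rfl⟩ : ∃ cr : (Fin n → A) × P, LocalizedModule.mk cr.1 cr.2 = y := by
        induction y using LocalizedModule.induction_on with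
        | h c r => exact ⟨(c, r), rfl⟩
      have h0 : LocalizedModule.map P π (LocalizedModule.mk c r) = 0 :=
        LinearMap.mem_ker.1 (hs ▸ Submodule.subset_span hy)
      rw [LocalizedModule.map_mk, mk_eq_zero_iff'] at h0
      obtain ⟨u, hu⟩ := h0
      refine ⟨(u : A) • c, by rwa [map_smul], u * r, ?_⟩
      exact LocalizedModule.mk_cancel_common_left u r c
    choose c hc r hr using hrep
    refine ⟨s.attach.image fun y => c y.1 y.2, fun z hz => ?_, fun z hz => ?_⟩
    · obtain ⟨y, -, rfl⟩ := Finset.mem_image.1 hz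
      exact hc y.1 y.2
    · set N := Submodule.span A ((s.attach.image fun y => c y.1 y.2 : Finset (Fin n → A)) : Set (Fin n → A))
      have hmem : LocalizedModule.mk z (1 : P) ∈ N.localized P := by
        have h0 : LocalizedModule.mk z (1 : P) ∈ LinearMap.ker (LocalizedModule.map P π) := by
          rw [LinearMap.mem_ker, LocalizedModule.map_mk, hz, LocalizedModule.zero_mk]
        rw [← hs] at h0
        refine Submodule.span_le.2 (fun y hy => ?_) h0
        exact ⟨c y hy, Submodule.subset_span (Finset.mem_image.2 ⟨⟨y, hy⟩, Finset.mem_attach _ _, rfl⟩),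
          r y hy, by rw [← IsLocalizedModule.mk_eq_mk', hr]⟩
      obtain ⟨m, hm, u, hu⟩ := hmem
      rw [← IsLocalizedModule.mk_eq_mk', LocalizedModule.mk_eq] at hu
      obtain ⟨⟨_, j, rfl⟩, hj⟩ := hu
      obtain ⟨k, hk⟩ := u.2
      refine ⟨j + k, ?_⟩
      have hj' : (g : A) ^ j • m = (g : A) ^ j • ((u : A) • z) := by
        simpa [Submonoid.smul_def] using hj
      rw [pow_add, mul_smul, show (g : A) ^ k = (u : A) from hk, ← hj']
      exact Submodule.smul_mem _ _ hm
  choose S hS hS' using hker
  let K := Submodule.span A ((Finset.univ.biUnion S : Finset (Fin n → A)) : Set (Fin n → A))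
  have hK : K ≤ LinearMap.ker π := Submodule.span_le.2 fun z hz => by
    obtain ⟨g, -, hg⟩ := Finset.mem_biUnion.1 (Finset.mem_coe.1 hz)
    exact hS g z hg
  refine ⟨(Fin n → A) ⧸ K, inferInstance, inferInstance,
    Module.finitePresentation_of_surjective K.mkQ K.mkQ_surjective (by rw [Submodule.ker_mkQ]; exact Submodule.fg_span (Finset.finite_toSet _)),
    K.liftQ π hK, fun g hg => ⟨?_, ?_⟩⟩
  · rw [injective_iff_map_eq_zero]
    intro y hy
    induction y using LocalizedModule.induction_on with
    | h x r =>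
      obtain ⟨z, rfl⟩ := K.mkQ_surjective x
      rw [LocalizedModule.map_mk, mk_eq_zero_iff'] at hy
      obtain ⟨⟨_, l, rfl⟩, hl⟩ := hy
      have hl' : π (g ^ l • z) = 0 := by rw [map_smul]; exact hl
      obtain ⟨j, hj⟩ := hS' ⟨g, hg⟩ _ hl'
      rw [mk_eq_zero_iff']
      refine ⟨⟨g ^ (j + l), j + l, rfl⟩, ?_⟩
      show (g ^ (j + l)) • K.mkQ z = 0
      rw [← map_smul, Submodule.mkQ_apply, Submodule.Quotient.mk_eq_zero, pow_add, mul_smul]
      exact Submodule.span_mono (fun x hx => Finset.mem_coe.2 (Finset.mem_biUnion.2 ⟨⟨g, hg⟩, Finset.mem_univ _, Finset.mem_coe.1 hx⟩)) hj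
  · intro y
    obtain ⟨z, rfl⟩ := hsurj ⟨g, hg⟩ y
    induction z using LocalizedModule.induction_on with
    | h x r => exact ⟨LocalizedModule.mk (K.mkQ x) r, by rw [LocalizedModule.map_mk, LocalizedModule.map_mk]; rfl⟩

/-- Splitting a presentation after multiplying by a power of `f`. -/
theorem exists_factor_free (f : A) {r : ℕ} {M : Type u} [AddCommGroup M] [Module A M] [Module.FinitePresentation A M]
    (π : (Fin r → A) →ₗ[A] M) (hπ : Function.Surjective π)
    [Module.Projective (Localization (Submonoid.powers f)) (LocalizedModule (Submonoid.powers f) M)] :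
    ∃ (k : ℕ) (s : M →ₗ[A] (Fin r → A)), π ∘ₗ s = f ^ k • LinearMap.id := by
  let S := Submonoid.powers f
  let πf := LocalizedModule.map S π
  obtain ⟨σ, hσ⟩ := Module.projective_lifting_property πf LinearMap.id (LocalizedModule.map_surjective S π hπ)
  let g : M →ₗ[A] LocalizedModule S (Fin r → A) := (σ.restrictScalars A) ∘ₗ LocalizedModule.mkLinearMap S M
  obtain ⟨h, t, ht⟩ := Module.FinitePresentation.exists_lift_of_isLocalizedModule S (LocalizedModule.mkLinearMap S (Fin r → A)) g
  have h1 : LocalizedModule.mkLinearMap S M ∘ₗ (π ∘ₗ h) = LocalizedModule.mkLinearMap S M ∘ₗ ((t : A) • LinearMap.id) := by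
    refine LinearMap.ext fun m => ?_
    have h2 : πf (LocalizedModule.mkLinearMap S (Fin r → A) (h m)) = (t : A) • πf (g m) := by
      rw [show LocalizedModule.mkLinearMap S (Fin r → A) (h m) = (t : A) • g m from LinearMap.congr_fun ht m, LinearMap.map_smul_of_tower]
    have h3 : πf (g m) = LocalizedModule.mkLinearMap S M m := LinearMap.congr_fun hσ _
    show LocalizedModule.mkLinearMap S M (π (h m)) = LocalizedModule.mkLinearMap S M ((t : A) • m)
    rw [map_smul, ← h3, ← h2]
    exact (LocalizedModule.map_mk S π (h m) 1).symm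
  obtain ⟨⟨_, k, rfl⟩, hk⟩ := Module.Finite.exists_smul_of_comp_eq_of_isLocalizedModule S (LocalizedModule.mkLinearMap S M) _ _ h1
  obtain ⟨l, hl⟩ := t.2
  refine ⟨k + l, f ^ k • h, ?_⟩
  rw [LinearMap.comp_smul]
  have hk' : f ^ k • (π ∘ₗ h) = f ^ k • ((t : A) • (LinearMap.id : M →ₗ[A] M)) := hk
  rw [hk', ← hl, smul_smul, ← pow_add]

end Groth.Agent.PunctFree27
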